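import Groth.Agent.Lib.EtLocal.PointFibre
import Groth.Agent.Lib.FibreFlat.OpenScheme
import Groth.Agent.Lib.WeakEtale.Basic
import Mathlib

/-! # Flatness and smoothness over a completed base, from the special fibre. -/

set_option autoImplicit false
set_option backward.isDefEq.respectTransparency false

universe u

open CategoryTheory Limits AlgebraicGeometry

namespace GrothLib.AdicFlatCrit8

/-- A morphism into an affine scheme killing an ideal factors through the quotient. -/
theorem exists_factor_quotient {A : Type u} [CommRing A] (I : Ideal A) {T : Scheme.{u}}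
    (f : T ⟶ Spec (.of A)) (hf : ∀ a ∈ I, f.appTop ((Scheme.ΓSpecIso (.of A)).inv a) = 0) :
    ∃ k : T ⟶ Spec (.of (A ⧸ I)), k ≫ Spec.map (CommRingCat.ofHom (Ideal.Quotient.mk I)) = f := by
  let ψ : CommRingCat.of A ⟶ Γ(T, ⊤) := (Scheme.ΓSpecIso (.of A)).inv ≫ f.appTop
  let ψ' : CommRingCat.of (A ⧸ I) ⟶ Γ(T, ⊤) := CommRingCat.ofHom (Ideal.Quotient.lift I ψ.hom hf)
  refine ⟨T.toSpecΓ ≫ Spec.map ψ', ?_⟩
  rw [Category.assoc, ← Spec.map_comp,
    show CommRingCat.ofHom (Ideal.Quotient.mk I) ≫ ψ' = ψ from rfl,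
    Spec.map_comp, ← Category.assoc, ← Scheme.toSpecΓ_naturality, Category.assoc,
    toSpecΓ_SpecMap_ΓSpecIso_inv, Category.comp_id]

/-- Open subsets of a spectrum containing all maximal ideals are everything. -/
theorem open_eq_univ {R : Type u} [CommRing R] {W : Set (PrimeSpectrum R)} (hW : IsOpen W)
    (h : ∀ p : PrimeSpectrum R, p.asIdeal.IsMaximal → p ∈ W) : W = Set.univ := by
  refine Set.eq_univ_of_forall fun p => ?_
  obtain ⟨m, hm, hpm⟩ := Ideal.exists_le_maximal p.asIdeal p.2.ne_top
  exact ((PrimeSpectrum.le_iff_specializes p ⟨m, hm.isPrime⟩).mp hpm).mem_open hW (h _ hm)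

/-- A property stable under base change passes to the base change by a map whose image avoids
the bad points. -/
theorem baseChange_of_open {P : MorphismProperty Scheme.{u}} [P.IsStableUnderBaseChange]
    {X S T : Scheme.{u}} (h : X ⟶ S) (c : T ⟶ S) (U : X.Opens)
    (hU : ∀ z : ↥(pullback h c), pullback.fst h c z ∈ U) (hP : P (U.ι ≫ h)) :
    P (pullback.snd h c) := by
  have hr : Set.range (pullback.fst h c) ⊆ Set.range U.ι := by
    rw [Scheme.Opens.range_ι]; rintro _ ⟨z, rfl⟩; exact hU z
  let l : pullback h c ⟶ U := IsOpenImmersion.lift U.ι (pullback.fst h c) hr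
  have hl : l ≫ U.ι = pullback.fst h c := IsOpenImmersion.lift_fac _ _ _
  have hsq : IsPullback l (pullback.snd h c) (U.ι ≫ h) c :=
    ⟨⟨by rw [reassoc_of% hl]; exact pullback.condition⟩, ⟨PullbackCone.IsLimit.mk _
      (fun s => pullback.lift (s.fst ≫ U.ι) s.snd (by rw [Category.assoc]; exact s.condition))
      (fun s => by rw [← cancel_mono U.ι, Category.assoc, hl, pullback.lift_fst])
      (fun s => pullback.lift_snd _ _ _)
      (fun s m h1 h2 => pullback.hom_ext
        (by rw [pullback.lift_fst, ← hl, reassoc_of% h1]) (by rw [pullback.lift_snd]; exact h2))⟩⟩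
  exact P.of_isPullback hsq hP

variable {V A : Type u} [CommRing V] [IsDomain V] [IsDiscreteValuationRing V]
  [CommRing A] [Algebra V A]

local notation "𝔞" => Ideal.map (algebraMap V A) (IsLocalRing.maximalIdeal V)
local notation "gA" => Spec.map (CommRingCat.ofHom (algebraMap V A))
local notation "qA" => Spec.map (CommRingCat.ofHom (Ideal.Quotient.mk 𝔞))
local notation "cA" => Spec.map (CommRingCat.ofHom (algebraMap A (AdicCompletion 𝔞 A)))

omit [IsDomain V] [IsDiscreteValuationRing V] in
theorem special_iff [IsLocalRing V] (a : Spec (CommRingCat.of A)) :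
    gA a = IsLocalRing.closedPoint V ↔ 𝔞 ≤ a.asIdeal := by
  have key : (gA a).asIdeal = a.asIdeal.comap (algebraMap V A) := rfl
  rw [Ideal.map_le_iff_le_comap]
  constructor
  · intro h
    rw [← key, h]
    exact le_refl _
  · intro h
    refine PrimeSpectrum.ext ?_
    refine key.trans ((IsLocalRing.maximalIdeal.isMaximal V).eq_of_le ?_ h).symm
    exact Ideal.IsPrime.ne_top (Ideal.comap_isPrime _ _)

/-- The special fibre of `Spec A` factors through the quotient. -/
theorem fiberι_factor (s : Spec (CommRingCat.of V)) (hs : s = IsLocalRing.closedPoint V) :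
    ∃ k, k ≫ qA = (gA).fiberι s := by
  refine exists_factor_quotient _ _ fun a ha => ?_
  obtain ⟨φ, hφ⟩ : ∃ φ, Spec.map φ = (Spec (.of V)).fromSpecResidueField s :=
    Spec.map_surjective _
  have hm : ∀ v ∈ IsLocalRing.maximalIdeal V, φ.hom v = 0 := by
    intro v hv
    obtain ⟨p⟩ : Nonempty ↥(Spec ((Spec (.of V)).residueField s)) := inferInstance
    have hp : Spec.map φ p = s := by rw [hφ]; exact Scheme.fromSpecResidueField_apply s p
    have hv' : v ∈ (Spec.map φ p).asIdeal := by rw [hp, hs]; exact hv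
    have hbot : p.asIdeal = ⊥ := (Ideal.eq_bot_or_top p.asIdeal).resolve_right p.2.ne_top
    exact (Submodule.mem_bot ((Spec (.of V)).residueField s)).mp (hbot ▸ hv')
  have hcond : (gA).fiberι s ≫ gA = (gA).fiberToSpecResidueField s ≫ Spec.map φ := by
    rw [hφ]; exact pullback.condition
  have key : (CommRingCat.ofHom (algebraMap V A)) ≫ (Scheme.ΓSpecIso (.of A)).inv ≫
      ((gA).fiberι s).appTop = φ ≫ (Scheme.ΓSpecIso _).inv ≫
      ((gA).fiberToSpecResidueField s).appTop := by
    rw [Scheme.ΓSpecIso_inv_naturality_assoc, Scheme.ΓSpecIso_inv_naturality_assoc,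
      ← Scheme.Hom.comp_appTop, ← Scheme.Hom.comp_appTop, hcond]
  let ψ : A →+* Γ((gA).fiber s, ⊤) :=
    ((Scheme.ΓSpecIso (.of A)).inv ≫ ((gA).fiberι s).appTop).hom
  have hle : 𝔞 ≤ RingHom.ker ψ := by
    rw [Ideal.map_le_iff_le_comap]
    intro v hv
    rw [Ideal.mem_comap, RingHom.mem_ker]
    calc ψ (algebraMap V A v)
        = ((Scheme.ΓSpecIso _).inv ≫ ((gA).fiberToSpecResidueField s).appTop).hom (φ.hom v) :=
          congrArg (fun r => r.hom v) key
      _ = 0 := by rw [hm v hv, map_zero]
  exact RingHom.mem_ker.mp (hle ha)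

variable {X : Scheme.{u}} (h : X ⟶ Spec (CommRingCat.of A))

theorem prop_fiberMap {P : MorphismProperty Scheme.{u}} [P.IsStableUnderBaseChange]
    (s : Spec (CommRingCat.of V)) (hs : s = IsLocalRing.closedPoint V)
    (hq : P (pullback.snd h qA)) : P (MoreMor.fiberMap h gA s) := by
  haveI : P.RespectsIso := MorphismProperty.IsStableUnderBaseChange.respectsIso
  refine (FibreFlat.prop_fiberMap_iff h gA s).mpr ?_
  obtain ⟨k, hk⟩ := fiberι_factor (A := A) s hs
  rw [← hk, ← pullbackLeftPullbackSndIso_inv_snd_snd h qA k, P.cancel_left_of_respectsIso]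
  exact P.pullback_snd _ _ hq

/-- Flatness at the special points. -/
theorem flatAt [Algebra.FiniteType V A] [LocallyOfFinitePresentation (h ≫ gA)]
    [Flat (h ≫ gA)] [Flat (pullback.snd h qA)] (x : X) (hx : 𝔞 ≤ (h x).asIdeal) :
    (h.stalkMap x).hom.Flat := by
  haveI : LocallyOfFiniteType gA :=
    (HasRingHomProperty.Spec_iff (P := @LocallyOfFiniteType)).mpr
      (RingHom.finiteType_algebraMap.mpr ‹_›)
  haveI : Flat (MoreMor.fiberMap h gA (gA (h x))) :=
    prop_fiberMap (P := @Flat) h _ ((special_iff _).mpr hx) inferInstance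
  refine ((FibreFlat.critere_par_fibres h gA x).mp ⟨Flat.stalkMap _ x, ?_⟩).2
  rw [← FibreFlat.flat_fiberMap_stalkMap_iff h gA (gA (h x)) ((h ≫ gA).asFiber x) x
    ((h ≫ gA).fiberι_asFiber x)]
  exact Flat.stalkMap _ _

/-- Smoothness at the special points. -/
theorem smoothAt [Algebra.FiniteType V A] [LocallyOfFinitePresentation (h ≫ gA)]
    [LocallyOfFinitePresentation h]
    [Flat (h ≫ gA)] [Smooth (pullback.snd h qA)] (x : X) (hx : 𝔞 ≤ (h x).asIdeal) :
    x ∈ h.smoothLocus := by
  haveI : LocallyOfFiniteType gA :=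
    (HasRingHomProperty.Spec_iff (P := @LocallyOfFiniteType)).mpr
      (RingHom.finiteType_algebraMap.mpr ‹_›)
  have hsm : Smooth (MoreMor.fiberMap h gA (gA (h x))) :=
    prop_fiberMap (P := @Smooth) h _ ((special_iff _).mpr hx) inferInstance
  refine (LocProp.smooth_nhd_iff h x).mp ((EtLocal.smooth_nhd_fiberMap_iff h gA x
    ((h ≫ gA).asFiber x) ((h ≫ gA).fiberι_asFiber x) (Flat.stalkMap _ x)).mpr ⟨⊤, trivial, ?_⟩)
  infer_instance

/-- A property holding near the special points holds after completing. -/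
theorem baseChange_completion {P : MorphismProperty Scheme.{u}} [P.IsStableUnderBaseChange]
    [IsNoetherianRing A] [UniversallyClosed h] (G : X.Opens)
    (hG : ∀ x, 𝔞 ≤ (h x).asIdeal → x ∈ G) (hP : P (G.ι ≫ h)) :
    P (pullback.snd h cA) := by
  refine baseChange_of_open h cA G (fun z => ?_) hP
  by_contra hz
  have hcl : IsClosed (h '' (G : Set X)ᶜ) := h.isClosedMap _ G.2.isClosed_compl
  have hopen : IsOpen (cA ⁻¹' (h '' (G : Set X)ᶜ)ᶜ) :=
    hcl.isOpen_compl.preimage (cA).continuous
  have huniv := open_eq_univ hopen fun p hp => by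
    rintro ⟨x, hxG, hxp⟩
    refine hxG (hG x ?_)
    rw [hxp]
    haveI := AdicCompletion.isAdicComplete_self 𝔞 (IsNoetherian.noetherian (R := A) _)
    have h1 : Ideal.map (algebraMap A (AdicCompletion 𝔞 A)) 𝔞 ≤ p.asIdeal :=
      (IsAdicComplete.le_jacobson_bot _).trans (sInf_le ⟨bot_le, hp⟩)
    exact Ideal.map_le_iff_le_comap.mp h1
  have : cA (pullback.snd h cA z) ∈ (h '' (G : Set X)ᶜ)ᶜ :=
    huniv.ge (Set.mem_univ (pullback.snd h cA z))
  refine this ⟨pullback.fst h cA z, hz, ?_⟩
  rw [← Scheme.Hom.comp_apply, pullback.condition]; rfl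

/-- A property of the completed base change passes to the special fibre. -/
theorem special_of_completion {P : MorphismProperty Scheme.{u}} [P.IsStableUnderBaseChange]
    (hP : P (pullback.snd h cA)) : P (pullback.snd h qA) := by
  haveI : P.RespectsIso := MorphismProperty.IsStableUnderBaseChange.respectsIso
  have hk : Spec.map (CommRingCat.ofHom (AdicCompletion.evalOneₐ 𝔞).toRingHom) ≫ cA = qA := by
    rw [← Spec.map_comp]; rfl
  rw [← hk, ← pullbackLeftPullbackSndIso_inv_snd_snd h cA _, P.cancel_left_of_respectsIso]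
  exact P.pullback_snd _ _ hP

/-- Flatness of the completed base change descends to flatness over the valuation ring. -/
theorem flat_comp_of_completion [IsNoetherianRing A] [Module.Flat V A]
    [Flat (pullback.snd h cA)] : Flat (h ≫ gA) := by
  refine Flat.of_stalkMap _ fun x => ?_
  by_cases hx : 𝔞 ≤ (h x).asIdeal
  · haveI : Flat cA := Flat.SpecMap_iff.mpr
      (RingHom.flat_algebraMap_iff.mpr (AdicCompletion.flat_of_isNoetherian 𝔞))
    haveI : Flat gA := Flat.SpecMap_iff.mpr (RingHom.flat_algebraMap_iff.mpr ‹_›)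
    haveI : Flat (pullback.fst h cA) := inferInstance
    haveI : Flat (pullback.fst h cA ≫ h ≫ gA) := by
      rw [pullback.condition_assoc]; infer_instance
    obtain ⟨t, ht⟩ : ∃ t, cA t = h x := by
      obtain ⟨q, hq⟩ : ∃ q, qA q = h x := by
        have : h x ∈ Set.range (PrimeSpectrum.comap (Ideal.Quotient.mk 𝔞)) := by
          rw [range_comap_of_surjective _ _ Ideal.Quotient.mk_surjective,
            Ideal.mk_ker]
          exact hx
        exact this
      refine ⟨Spec.map (CommRingCat.ofHom (AdicCompletion.evalOneₐ 𝔞).toRingHom) q, ?_⟩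
      rw [← Scheme.Hom.comp_apply, ← Spec.map_comp]
      exact hq
    obtain ⟨z, hz, -⟩ := Scheme.Pullback.exists_preimage_pullback (f := h) (g := cA) x t ht.symm
    subst hz
    have H := Flat.stalkMap (pullback.fst h cA ≫ h ≫ gA) z
    rw [Scheme.Hom.stalkMap_comp] at H
    refine WeakEtale.ringFlat_of_comp _ ((pullback.fst h cA).stalkMap z).hom ?_ H
    have := Flat.stalkMap (pullback.fst h cA) z
    algebraize [((pullback.fst h cA).stalkMap z).hom]
    haveI : IsLocalHom (algebraMap (X.presheaf.stalk (pullback.fst h cA z))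
        ((pullback h cA).presheaf.stalk z)) :=
      inferInstanceAs <| IsLocalHom ((pullback.fst h cA).stalkMap z).hom
    exact RingHom.faithfullyFlat_algebraMap_iff.mpr Module.FaithfullyFlat.of_flat_of_isLocalHom
  · have hgen : (h ≫ gA) x = genericPoint ↥(Spec (CommRingCat.of V)) := by
      rw [genericPoint_eq_bot_of_affine]
      refine PrimeSpectrum.ext ?_
      by_contra hne
      refine hx ((special_iff _).mp (PrimeSpectrum.ext ?_))
      exact IsLocalRing.eq_maximalIdeal (Ideal.IsPrime.isMaximal inferInstance hne)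
    have hfld : IsField ((Spec (CommRingCat.of V)).presheaf.stalk ((h ≫ gA) x)) := by
      rw [hgen]; exact Field.toIsField (Spec (CommRingCat.of V)).functionField
    letI := hfld.toField
    algebraize [((h ≫ gA).stalkMap x).hom]
    exact RingHom.flat_algebraMap_iff.mpr inferInstance

end GrothLib.AdicFlatCrit8
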